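import Mathlib.RingTheory.LocalIso
import Mathlib.RingTheory.RingHom.Etale

/-! local isomorphisms are etale -/

universe u

namespace Groth.Agent.IndZarLib

theorem etale_of_isLocalIso (R S : Type u) [CommRing R] [CommRing S] [Algebra R S] [Algebra.IsLocalIso R S] :
    Algebra.Etale R S := by
  rw [← RingHom.etale_algebraMap]
  refine RingHom.Etale.ofLocalizationSpanTarget (algebraMap R S)
    {g : S | Algebra.IsStandardOpenImmersion R (Localization.Away g)}
    (Algebra.IsLocalIso.span_isStandardOpenImmersion_eq_top R S) fun ⟨g, hg⟩ => ?_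
  obtain ⟨r, hr⟩ := hg.exists_away
  haveI : Algebra.Etale R (Localization.Away g) := Algebra.Etale.of_isLocalizationAway r
  rw [← IsScalarTower.algebraMap_eq R S (Localization.Away g)]
  exact RingHom.etale_algebraMap.2 inferInstance

end Groth.Agent.IndZarLib
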