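import Groth.Agent.IndEtLib.Sys
import Groth.Agent.IndZarLib.LocalIso
import Groth.Prelude.Def_PBC

/-!
# A factorisation criterion for ind-Zariski algebras
-/

universe u

open CategoryTheory Limits
open scoped TensorProduct

namespace Groth.Agent.IndZarLib

noncomputable section

variable (A B : Type u) [CommRing A] [CommRing B] [Algebra A B]

/-- a local isomorphism with a map to `B`, given by a presentation -/
structure ZModel : Type u where
  n : ℕ
  I : Ideal (MvPolynomial (Fin n) A)
  fg : I.FG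
  isLocalIso : Algebra.IsLocalIso A (MvPolynomial (Fin n) A ⧸ I)
  toB : (MvPolynomial (Fin n) A ⧸ I) →ₐ[A] B

variable {A B}

/-- the algebra of a model -/
abbrev ZModel.Alg (X : ZModel A B) : Type u := MvPolynomial (Fin X.n) A ⧸ X.I

instance (X : ZModel A B) : Algebra.IsLocalIso A X.Alg := X.isLocalIso
instance (X : ZModel A B) : Algebra.FinitePresentation A X.Alg :=
  Algebra.FinitePresentation.quotient X.fg

theorem ZModel.exists_equiv (N : Type u) [CommRing N] [Algebra A N] [Algebra.IsLocalIso A N] (β : N →ₐ[A] B) :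
    ∃ (X : ZModel A B) (e : X.Alg ≃ₐ[A] N), X.toB = β.comp e.toAlgHom := by
  haveI := etale_of_isLocalIso A N
  obtain ⟨n, π, hπ, hker⟩ := Algebra.FinitePresentation.out (R := A) (A := N)
  let e := Ideal.quotientKerAlgEquivOfSurjective hπ
  exact ⟨⟨n, RingHom.ker π, hker, Algebra.IsLocalIso.of_algEquiv e.symm, β.comp e.toAlgHom⟩, e, rfl⟩

instance : SmallCategory (ZModel A B) where
  Hom X Y := {α : X.Alg →ₐ[A] Y.Alg // Y.toB.comp α = X.toB}
  id X := ⟨AlgHom.id A _, AlgHom.comp_id _⟩
  comp f g := ⟨g.1.comp f.1, by rw [← AlgHom.comp_assoc, g.2, f.2]⟩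

/-- the factorisation property -/
def FactorsThrough (A B : Type u) [CommRing A] [CommRing B] [Algebra A B] : Prop :=
  ∀ (P : Type u) [CommRing P] [Algebra A P] [Algebra.FinitePresentation A P] (φ : P →ₐ[A] B),
      ∃ (N : Type u) (_ : CommRing N) (_ : Algebra A N) (_ : Algebra.IsLocalIso A N)
        (α : P →ₐ[A] N) (β : N →ₐ[A] B), β.comp α = φ

theorem FactorsThrough.exists_model (h : FactorsThrough A B) (P : Type u) [CommRing P] [Algebra A P]
    [Algebra.FinitePresentation A P] (φ : P →ₐ[A] B) :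
    ∃ (X : ZModel A B) (α : P →ₐ[A] X.Alg), X.toB.comp α = φ := by
  obtain ⟨N, _, _, _, α, β, hαβ⟩ := h P φ
  obtain ⟨X, e, he⟩ := ZModel.exists_equiv N β
  refine ⟨X, e.symm.toAlgHom.comp α, ?_⟩
  rw [he, ← hαβ]
  ext p
  simp

theorem isFiltered_zmodel (h : FactorsThrough A B) : IsFiltered (ZModel A B) :=
  haveI : Nonempty (ZModel A B) := ⟨(h.exists_model A (Algebra.ofId A B)).choose⟩
  { cocone_objs := fun X Y => by
      haveI := Algebra.FinitePresentation.trans A X.Alg (X.Alg ⊗[A] Y.Alg)
      obtain ⟨Z, α, hα⟩ := h.exists_model (X.Alg ⊗[A] Y.Alg)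
        (Algebra.TensorProduct.lift X.toB Y.toB fun _ _ => .all _ _)
      exact ⟨Z, ⟨α.comp Algebra.TensorProduct.includeLeft, by rw [← AlgHom.comp_assoc, hα]; ext x; simp⟩,
        ⟨α.comp Algebra.TensorProduct.includeRight, by rw [← AlgHom.comp_assoc, hα]; ext x; simp⟩, trivial⟩
    cocone_maps := fun X Y f g => by
      classical
      obtain ⟨s, hs⟩ := Algebra.FiniteType.out (R := A) (A := X.Alg)
      let K : Ideal Y.Alg := Ideal.span (s.image fun x => f.1 x - g.1 x : Set Y.Alg)
      haveI : Algebra.FinitePresentation A (Y.Alg ⧸ K) :=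
        Algebra.FinitePresentation.quotient ⟨s.image fun x => f.1 x - g.1 x, rfl⟩
      let ψ : (Y.Alg ⧸ K) →ₐ[A] B := Ideal.Quotient.liftₐ K Y.toB fun a ha => by
        have : K ≤ RingHom.ker Y.toB := Ideal.span_le.2 fun a ha => by
          obtain ⟨x, _, rfl⟩ := Finset.mem_image.1 (Finset.mem_coe.1 ha)
          rw [SetLike.mem_coe, RingHom.mem_ker, map_sub, sub_eq_zero]
          exact (AlgHom.congr_fun f.2 x).trans (AlgHom.congr_fun g.2 x).symm
        exact this ha
      obtain ⟨Z, α, hα⟩ := h.exists_model (Y.Alg ⧸ K) ψ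
      refine ⟨Z, ⟨α.comp (Ideal.Quotient.mkₐ A K), by rw [← AlgHom.comp_assoc, hα]; rfl⟩, Subtype.ext ?_⟩
      refine AlgHom.ext_of_adjoin_eq_top hs fun x hx => ?_
      change α (Ideal.Quotient.mk K (f.1 x)) = α (Ideal.Quotient.mk K (g.1 x))
      exact congrArg α (Ideal.Quotient.eq.2 (Ideal.subset_span
        (Finset.mem_coe.2 (Finset.mem_image_of_mem (fun x => f.1 x - g.1 x) hx)))) }

/-- `B` is ind-Zariski as soon as maps from finitely presented algebras factor through local
isomorphisms. -/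
theorem isIndZariski_of_factor (h : FactorsThrough A B) : EtPBC.IsIndZariski A B := by
  haveI := isFiltered_zmodel h
  let D : ZModel A B ⥤ CategoryTheory.Under (CommRingCat.of A) :=
    { obj := fun X => CategoryTheory.Under.mk (CommRingCat.ofHom (algebraMap A X.Alg))
      map := fun f => CategoryTheory.Under.homMk (CommRingCat.ofHom f.1.toRingHom) (by
        ext r; exact f.1.commutes r) }
  let c : Cocone D :=
    { pt := CategoryTheory.Under.mk (CommRingCat.ofHom (algebraMap A B))
      ι :=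
        { app := fun X => CategoryTheory.Under.homMk (CommRingCat.ofHom X.toB.toRingHom) (by
            ext r; exact X.toB.commutes r)
          naturality := fun X Y f => by
            apply CategoryTheory.Under.UnderMorphism.ext
            ext b
            exact congr($(f.2) b) } }
  have : IsConnected (ZModel A B) := IsFiltered.isConnected _
  have : PreservesColimit (D ⋙ Under.forget _) (forget CommRingCat.{u}) := inferInstance
  have : ReflectsColimit (D ⋙ Under.forget _) (forget CommRingCat.{u}) :=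
    reflectsColimit_of_reflectsIsomorphisms _ _
  have hc : IsColimit c := by
    refine isColimitOfReflects (Under.forget _) (isColimitOfReflects (forget CommRingCat.{u}) ?_)
    refine Types.FilteredColimit.isColimitOf' _ _ (fun z => ?_) fun X (x : X.Alg) (y : X.Alg) hxy => ?_
    · obtain ⟨Z, α, hα⟩ := h.exists_model (Polynomial A) (Polynomial.aeval (show B from z))
      refine ⟨Z, α Polynomial.X, ?_⟩
      change z = Z.toB (α Polynomial.X)
      rw [← AlgHom.comp_apply, hα]
      exact (Polynomial.aeval_X (R := A) (A := B) z).symm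
    · have hxy' : X.toB x = X.toB y := hxy
      let K : Ideal X.Alg := Ideal.span {x - y}
      haveI : Algebra.FinitePresentation A (X.Alg ⧸ K) :=
        Algebra.FinitePresentation.quotient (Submodule.fg_span_singleton _)
      let φ : (X.Alg ⧸ K) →ₐ[A] B := Ideal.Quotient.liftₐ K X.toB fun a ha => by
        obtain ⟨r, rfl⟩ := Ideal.mem_span_singleton'.1 ha
        rw [map_mul, map_sub, hxy', sub_self, mul_zero]
      obtain ⟨Z, α, hα⟩ := h.exists_model (X.Alg ⧸ K) φ
      refine ⟨Z, ⟨α.comp (Ideal.Quotient.mkₐ A K), by rw [← AlgHom.comp_assoc, hα]; rfl⟩, ?_⟩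
      change α (Ideal.Quotient.mk K x) = α (Ideal.Quotient.mk K y)
      rw [show Ideal.Quotient.mk K x = Ideal.Quotient.mk K y from Ideal.Quotient.eq.2 (Ideal.subset_span rfl)]
  refine ⟨ZModel A B, inferInstance, inferInstance, D, c, hc, fun X => ?_, ⟨Iso.refl _⟩⟩
  show letI := (algebraMap A X.Alg).toAlgebra; Algebra.IsLocalIso A X.Alg
  rw [toAlgebra_algebraMap]
  exact X.isLocalIso

/-- the system of an ind-Zariski algebra -/
theorem exists_sys (h : EtPBC.IsIndZariski A B) :
    ∃ S : IndEtLib.Sys (CommRingCat.of A), (∀ j, Algebra.IsLocalIso A (S.A j)) ∧ Nonempty (S.pt ≃ₐ[A] B) := by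
  obtain ⟨J, _, _, D, c, hc, hD, ⟨i⟩⟩ := h
  refine ⟨⟨J, D, c, hc⟩, hD, ⟨AlgEquiv.ofRingEquiv
    (f := ((Under.forget _).mapIso i).commRingCatIsoToRingEquiv) fun a => ?_⟩⟩
  exact ConcreteCategory.congr_hom (CategoryTheory.Under.w i.hom) a

theorem factorsThrough_of_isIndZariski (h : EtPBC.IsIndZariski A B) : FactorsThrough A B := by
  intro P _ _ _ φ
  obtain ⟨S, hS, ⟨e⟩⟩ := exists_sys h
  obtain ⟨j, ψ, hψ⟩ := S.exists_lift P (e.symm.toAlgHom.comp φ)
  refine ⟨S.A j, inferInstance, inferInstance, hS j, ψ, e.toAlgHom.comp (S.ι j), ?_⟩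
  rw [AlgHom.comp_assoc, hψ]
  ext p
  simp

theorem isIndEtale_of_isIndZariski (h : EtPBC.IsIndZariski A B) : EtPBC.IsIndEtale A B :=
  IndEtLib.isIndEtale_of_factor fun P _ _ _ φ =>
    have ⟨N, i1, i2, i3, α, β, hab⟩ := factorsThrough_of_isIndZariski h P φ
    ⟨N, i1, i2, etale_of_isLocalIso A N, α, β, hab⟩

end

end Groth.Agent.IndZarLib
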