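import Groth.Agent.IndZarLib.Closure
import Groth.Agent.IndEtLib.Localization

/-!
# Products of standard opens over ind-Zariski algebras
-/

universe u

open scoped TensorProduct

namespace Groth.Agent.IndZarLib

noncomputable section

variable {A B : Type u} [CommRing A] [CommRing B] [Algebra A B]

theorem factor_away (hB : EtPBC.IsIndZariski A B) (h : B) (P : Type u) [CommRing P] [Algebra A P]
    [Algebra.FinitePresentation A P] (φ : P →ₐ[A] Localization.Away h) :
    ∃ (N : Type u) (_ : CommRing N) (_ : Algebra A N) (_ : Algebra.IsLocalIso A N)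
      (α : P →ₐ[A] N) (β : N →ₐ[A] Localization.Away h), β.comp α = φ := by
  classical
  obtain ⟨S, hS, ⟨e⟩⟩ := exists_sys hB
  obtain ⟨n, π, hπ, hker⟩ := Algebra.FinitePresentation.out (R := A) (A := P)
  obtain ⟨rels, hrels⟩ := hker
  choose x hx using fun i : Fin n => IsLocalization.surj (Submonoid.powers h) (φ (π (MvPolynomial.X i)))
  choose k hk using fun i : Fin n => (x i).2.2
  obtain ⟨j, y, hy⟩ := S.exists_lift_finset (Finset.univ : Finset (Option (Fin n)))
    (fun o => e.symm (Option.elim o h fun i => (x i).1))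
  let hj : S.A j := y none
  have hhj : e (S.ι j hj) = h := (congrArg e (hy none (Finset.mem_univ _))).trans (e.apply_symm_apply h)
  have hbj : ∀ i, e (S.ι j (y (some i))) = (x i).1 := fun i =>
    (congrArg e (hy (some i) (Finset.mem_univ _))).trans (e.apply_symm_apply _)
  -- the comparison from a later stage
  have mk : ∀ (k' : S.J) (c : S.A k'), e (S.ι k' c) = h →
      ∃ γ : Localization.Away c →ₐ[A] Localization.Away h,
        ∀ a : S.A k', γ (algebraMap _ _ a) = algebraMap B _ (e (S.ι k' a)) := fun k' c hc => by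
    have hu : IsUnit (((IsScalarTower.toAlgHom A B (Localization.Away h)).comp (e.toAlgHom.comp (S.ι k'))) c) := by
      change IsUnit (algebraMap B (Localization.Away h) (e (S.ι k' c)))
      rw [hc]; exact IsLocalization.Away.algebraMap_isUnit h
    exact ⟨IsLocalization.Away.liftAlgHom (A := A) c hu, fun a => by
      rw [IsLocalization.Away.liftAlgHom_apply]; exact IsLocalization.Away.lift_eq c hu a⟩
  obtain ⟨γ, hγ⟩ := mk j hj hhj
  let χ : MvPolynomial (Fin n) A →ₐ[A] Localization.Away hj :=
    MvPolynomial.aeval fun i => IsLocalization.mk' (M := Submonoid.powers hj) (Localization.Away hj) (y (some i)) ⟨hj ^ k i, k i, rfl⟩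
  have hγχ : γ.comp χ = φ.comp π := MvPolynomial.algHom_ext fun i => by
    simp only [AlgHom.comp_apply, χ, MvPolynomial.aeval_X]
    have hu : IsUnit (algebraMap B (Localization.Away h) (h ^ k i)) := by
      rw [map_pow]; exact (IsLocalization.Away.algebraMap_isUnit h).pow _
    refine hu.mul_right_cancel ?_
    have h1 := congrArg γ (IsLocalization.mk'_spec (M := Submonoid.powers hj) (Localization.Away hj) (y (some i)) ⟨hj ^ k i, k i, rfl⟩)
    rw [map_mul, hγ, hγ, hbj] at h1
    rw [show e (S.ι j (hj ^ k i)) = h ^ k i by rw [map_pow, map_pow, hhj]] at h1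
    rw [h1]
    have h2 := hx i
    rw [show ((x i).2 : B) = h ^ k i from (hk i).symm] at h2
    exact h2.symm
  -- kill the relations at a later stage
  choose w hw using fun r : MvPolynomial (Fin n) A => IsLocalization.surj (Submonoid.powers hj) (χ r)
  have hz : ∀ r ∈ rels, ∃ m : ℕ, S.ι j (hj ^ m * (w r).1) = 0 := fun r hr => by
    have h0 : algebraMap B (Localization.Away h) (e (S.ι j (w r).1)) = 0 := by
      rw [← hγ, ← hw r, map_mul, ← AlgHom.comp_apply, hγχ, AlgHom.comp_apply,
        show π r = 0 from RingHom.mem_ker.1 (hrels.le (Submodule.subset_span hr)), map_zero, zero_mul]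
    obtain ⟨⟨_, m, rfl⟩, hm⟩ := (IsLocalization.map_eq_zero_iff (Submonoid.powers h) _ _).1 h0
    refine ⟨m, e.injective ?_⟩
    rw [map_zero, map_mul, map_mul, map_pow, map_pow, hhj]
    exact hm
  choose! m hm using hz
  obtain ⟨l, f, hf⟩ := S.exists_eq_finset rels (fun r => hj ^ m r * (w r).1) (fun _ => 0) fun r hr => by
    rw [map_zero]; exact hm r hr
  let hl : S.A l := S.tr f hj
  obtain ⟨γ', hγ'⟩ := mk l hl (by rw [show S.ι l hl = S.ι j hj from S.ι_tr_apply f hj, hhj])
  have hu : IsUnit (((IsScalarTower.toAlgHom A (S.A l) (Localization.Away hl)).comp (S.tr f)) hj) :=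
    IsLocalization.Away.algebraMap_isUnit hl
  let τ : Localization.Away hj →ₐ[A] Localization.Away hl := IsLocalization.Away.liftAlgHom (A := A) hj hu
  have hτ : ∀ a, τ (algebraMap _ _ a) = algebraMap _ _ (S.tr f a) := fun a => IsLocalization.Away.lift_eq hj hu a
  have hγτ : γ'.comp τ = γ := AlgHom.ext fun z => by
    obtain ⟨⟨a, s⟩, rfl⟩ := IsLocalization.mk'_surjective (Submonoid.powers hj) z
    have hus : IsUnit (γ (algebraMap _ _ (s : S.A j))) := (IsLocalization.map_units _ s).map γ
    refine hus.mul_right_cancel ?_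
    have hsq : ∀ a, γ' (τ (algebraMap _ _ a)) = γ (algebraMap _ _ a) := fun a => by
      rw [hτ, hγ', hγ, S.ι_tr_apply]
    rw [← map_mul, IsLocalization.mk'_spec, AlgHom.comp_apply, ← hsq, ← map_mul, ← map_mul, IsLocalization.mk'_spec, hsq]
  have hle : RingHom.ker π ≤ RingHom.ker (τ.comp χ) := hrels.ge.trans (Submodule.span_le.2 fun r hr => by
    show τ (χ r) = 0
    have h1 : τ (χ r) * algebraMap _ _ (S.tr f ((w r).2 : S.A j)) = algebraMap _ _ (S.tr f (w r).1) := by
      rw [← hτ, ← hτ, ← map_mul, hw r]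
    have h2 : algebraMap (S.A l) (Localization.Away hl) (S.tr f (w r).1) = 0 := by
      refine (IsLocalization.map_eq_zero_iff (Submonoid.powers hl) _ _).2 ⟨⟨hl ^ m r, m r, rfl⟩, ?_⟩
      have := (hf r hr).trans (map_zero _)
      rwa [map_mul, map_pow] at this
    rw [h2] at h1
    refine (IsUnit.mul_left_eq_zero ?_).1 h1
    rw [← hτ]; exact (IsLocalization.map_units _ (w r).2).map τ)
  let ψ := AlgHom.liftOfSurjective π hπ (τ.comp χ) hle
  haveI := hS l
  haveI : Algebra.IsLocalIso A (Localization.Away hl) := Algebra.IsLocalIso.trans (R := A) (S := S.A l) _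
  refine ⟨Localization.Away hl, inferInstance, inferInstance, inferInstance, ψ, γ', AlgHom.ext fun p => ?_⟩
  obtain ⟨r, rfl⟩ := hπ p
  rw [AlgHom.comp_apply, show ψ (π r) = τ (χ r) from AlgHom.liftOfSurjective_apply π hπ _ hle r,
    ← AlgHom.comp_apply γ', hγτ, ← AlgHom.comp_apply, hγχ, AlgHom.comp_apply]

/-- `C` over `B` built from finite products of standard opens -/
theorem isIndZariski_trans_of_pi {C : Type u} [CommRing C] [Algebra A C] [Algebra B C] [IsScalarTower A B C]
    (hB : EtPBC.IsIndZariski A B)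
    (hC : ∀ (P : Type u) [CommRing P] [Algebra B P] [Algebra.FinitePresentation B P] (φ : P →ₐ[B] C),
      ∃ (ι : Type u) (_ : Finite ι) (h : ι → B) (α : P →ₐ[B] ∀ i, Localization.Away (h i))
        (β : (∀ i, Localization.Away (h i)) →ₐ[B] C), β.comp α = φ) :
    EtPBC.IsIndZariski A C := by
  refine isIndZariski_of_factor fun P _ _ _ φ => ?_
  let φ' : B ⊗[A] P →ₐ[B] C := Algebra.TensorProduct.lift (Algebra.ofId B C) φ (fun _ _ => .all _ _)
  obtain ⟨ι, _, h, α, β, hab⟩ := hC (B ⊗[A] P) φ'
  choose N i1 i2 i3 α' β' hab' using fun i => factor_away hB (h i) P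
    ((Pi.evalAlgHom A (fun i => Localization.Away (h i)) i).comp
      ((α.restrictScalars A).comp Algebra.TensorProduct.includeRight))
  letI := i1
  letI := i2
  haveI := i3
  refine ⟨∀ i, N i, inferInstance, inferInstance, Algebra.IsLocalIso.pi_of_finite A N, AlgHom.pi α',
    (β.restrictScalars A).comp (AlgHom.pi fun i => (β' i).comp (Pi.evalAlgHom A N i)), AlgHom.ext fun p => ?_⟩
  have hpt : (fun i => β' i (α' i p)) = α ((1 : B) ⊗ₜ[A] p) := funext fun i => AlgHom.congr_fun (hab' i) p
  change β (fun i => β' i (α' i p)) = φ p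
  rw [hpt, ← AlgHom.comp_apply, hab]
  simp [φ']

/-- localizations of ind-Zariski algebras -/
theorem isIndZariski_localization_trans {C : Type u} [CommRing C] [Algebra A C] [Algebra B C] [IsScalarTower A B C]
    (hB : EtPBC.IsIndZariski A B) (M : Submonoid B) [IsLocalization M C] : EtPBC.IsIndZariski A C :=
  isIndZariski_trans_of_pi hB fun P _ _ _ φ =>
    have ⟨m, ψ, hψ⟩ := IndEtLib.exists_lift_away M C P φ
    ⟨PUnit, inferInstance, fun _ => m.el, AlgHom.pi fun _ => ψ,
      (IndEtLib.LocIdx.toLoc C m).comp (Pi.evalAlgHom B (fun _ : PUnit.{u + 1} => m.Stage) PUnit.unit),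
      AlgHom.ext fun x => AlgHom.congr_fun hψ x⟩

end

end Groth.Agent.IndZarLib
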