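import Groth.Agent.IndZarLib.Factor
import Groth.Agent.IndEtLib.Localization
import Groth.Agent.S0736

/-!
# Closure properties of ind-Zariski algebras
-/

universe u

open CategoryTheory Limits
open scoped TensorProduct

namespace Groth.Agent.IndZarLib

noncomputable section

variable (A B : Type u) [CommRing A] [CommRing B] [Algebra A B]

theorem isIndZariski_of_isLocalIso [Algebra.IsLocalIso A B] : EtPBC.IsIndZariski A B :=
  isIndZariski_of_factor fun _ _ _ _ φ => ⟨B, inferInstance, inferInstance, inferInstance, φ, AlgHom.id A B, AlgHom.id_comp φ⟩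

theorem isIndZariski_of_algEquiv {B' : Type u} [CommRing B'] [Algebra A B'] (e : B ≃ₐ[A] B')
    (h : EtPBC.IsIndZariski A B) : EtPBC.IsIndZariski A B' :=
  isIndZariski_of_factor fun P _ _ _ φ =>
    have ⟨N, i1, i2, i3, α, β, hab⟩ := factorsThrough_of_isIndZariski h P (e.symm.toAlgHom.comp φ)
    ⟨N, i1, i2, i3, α, e.toAlgHom.comp β, by rw [AlgHom.comp_assoc, hab]; ext p; simp⟩

/-- finite products -/
theorem isIndZariski_pi {ι : Type u} [Finite ι] (C : ι → Type u) [∀ i, CommRing (C i)] [∀ i, Algebra A (C i)]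
    (h : ∀ i, EtPBC.IsIndZariski A (C i)) : EtPBC.IsIndZariski A (∀ i, C i) := by
  refine isIndZariski_of_factor fun P _ _ _ φ => ?_
  choose N i1 i2 i3 α β hab using fun i =>
    factorsThrough_of_isIndZariski (h i) P ((Pi.evalAlgHom A C i).comp φ)
  letI := i1
  letI := i2
  haveI := i3
  refine ⟨∀ i, N i, inferInstance, inferInstance, Algebra.IsLocalIso.pi_of_finite A N,
    AlgHom.pi α, AlgHom.pi fun i => (β i).comp (Pi.evalAlgHom A N i), ?_⟩
  ext p i
  exact AlgHom.congr_fun (hab i) p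

/-- filtered colimits -/
theorem isIndZariski_of_sys (S : IndEtLib.Sys (CommRingCat.of A)) (hS : ∀ j, EtPBC.IsIndZariski A (S.A j))
    (e : S.pt ≃ₐ[A] B) : EtPBC.IsIndZariski A B := by
  refine isIndZariski_of_factor fun P _ _ _ φ => ?_
  obtain ⟨j, ψ, hψ⟩ := S.exists_lift P (e.symm.toAlgHom.comp φ)
  obtain ⟨N, i1, i2, i3, α, β, hab⟩ := factorsThrough_of_isIndZariski (hS j) P ψ
  refine ⟨N, i1, i2, i3, α, e.toAlgHom.comp ((S.ι j).comp β), ?_⟩
  rw [AlgHom.comp_assoc, AlgHom.comp_assoc, hab, hψ]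
  ext p
  simp

theorem isIndZariski_baseChange (A' : Type u) [CommRing A'] [Algebra A A'] (h : EtPBC.IsIndZariski A B) :
    EtPBC.IsIndZariski A' (A' ⊗[A] B) := by
  obtain ⟨S, hS, ⟨e⟩⟩ := exists_sys h
  letI : Algebra (CommRingCat.of A) (CommRingCat.of A') := ‹Algebra A A'›
  let T := S.baseChange (CommRingCat.of A')
  refine ⟨T.J, inferInstance, inferInstance, T.D, T.c, T.hc, fun j => ?_, ⟨?_⟩⟩
  · haveI := hS j
    show letI := (algebraMap A' (A' ⊗[A] S.A j)).toAlgebra; Algebra.IsLocalIso A' (A' ⊗[A] S.A j)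
    rw [toAlgebra_algebraMap]
    infer_instance
  · exact (Algebra.TensorProduct.congr AlgEquiv.refl e :
      A' ⊗[A] S.pt ≃ₐ[A'] A' ⊗[A] B).toUnder

theorem flat_of_isIndZariski (h : EtPBC.IsIndZariski A B) : Module.Flat A B :=
  haveI := Groth.Agent.S0736.result A B (isIndEtale_of_isIndZariski h)
  Algebra.WeaklyEtale.flat

end

end Groth.Agent.IndZarLib
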