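import Groth.Agent.IndZarLib.Factor
import Mathlib.RingTheory.Localization.AtPrime.Basic

/-!
# Ind-Zariski algebras identify local rings
-/

universe u

namespace Groth.Agent.IndZarLib

noncomputable section

variable {A : Type u} [CommRing A]

/-- a standard open neighbourhood in a local isomorphism -/
theorem exists_frac_of_isLocalIso {N : Type u} [CommRing N] [Algebra A N] [Algebra.IsLocalIso A N]
    (q : Ideal N) [q.IsPrime] (x : N) :
    ∃ a d : A, ∃ c : N, d ∉ q.comap (algebraMap A N) ∧ c ∉ q ∧ c * (algebraMap A N d * x - algebraMap A N a) = 0 := by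
  obtain ⟨g, hg, hstd⟩ := Algebra.IsLocalIso.exists_notMem_isStandardOpenImmersion (R := A) q
  obtain ⟨r, hr⟩ := hstd.exists_away
  obtain ⟨n, a, ha⟩ := IsLocalization.Away.surj r (algebraMap N (Localization.Away g) x)
  have hr' : r ∉ q.comap (algebraMap A N) := fun h => by
    have hu : IsUnit (algebraMap A (Localization.Away g) r) := IsLocalization.Away.algebraMap_isUnit r
    rw [IsScalarTower.algebraMap_apply A N] at hu
    have hd : Disjoint (Submonoid.powers g : Set N) q := Ideal.disjoint_powers_iff_notMem _ (Ideal.IsPrime.isRadical ‹_›) |>.2 hg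
    exact (IsLocalization.isPrime_of_isPrime_disjoint (Submonoid.powers g) (Localization.Away g) q ‹_› hd).ne_top
      (Ideal.eq_top_of_isUnit_mem _ (Ideal.mem_map_of_mem _ h) hu)
  rw [IsScalarTower.algebraMap_apply A N, IsScalarTower.algebraMap_apply A N (Localization.Away g), ← map_pow,
    ← map_mul, IsLocalization.eq_iff_exists (Submonoid.powers g)] at ha
  obtain ⟨⟨c, k, rfl⟩, hc⟩ := ha
  refine ⟨a, r ^ n, g ^ k, fun h => hr' (Ideal.IsPrime.mem_of_pow_mem inferInstance n h),
    fun h => hg (Ideal.IsPrime.mem_of_pow_mem ‹_› k h), ?_⟩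
  rw [map_pow, mul_sub, mul_comm _ x, sub_eq_zero]
  exact hc

theorem exists_kill_of_isLocalIso {N : Type u} [CommRing N] [Algebra A N] [Algebra.IsLocalIso A N]
    (q : Ideal N) [q.IsPrime] (a : A) {c : N} (hc : c ∉ q) (hca : c * algebraMap A N a = 0) :
    ∃ d : A, d ∉ q.comap (algebraMap A N) ∧ d * a = 0 := by
  obtain ⟨g, hg, hstd⟩ := Algebra.IsLocalIso.exists_notMem_isStandardOpenImmersion (R := A) q
  obtain ⟨r, hr⟩ := hstd.exists_away
  have hd : Disjoint (Submonoid.powers g : Set N) q := Ideal.disjoint_powers_iff_notMem _ (Ideal.IsPrime.isRadical ‹_›) |>.2 hg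
  have hprime := IsLocalization.isPrime_of_isPrime_disjoint (Submonoid.powers g) (Localization.Away g) q ‹_› hd
  have hmem : ∀ z : N, algebraMap N (Localization.Away g) z ∈ q.map (algebraMap N (Localization.Away g)) ↔ z ∈ q := fun z => by
    exact iff_of_eq (congrArg (z ∈ ·) (IsLocalization.under_map_of_isPrime_disjoint (Submonoid.powers g) (Localization.Away g) ‹_› hd))
  obtain ⟨n, b, hb⟩ := IsLocalization.Away.surj r (algebraMap N (Localization.Away g) c)
  have hu : IsUnit (algebraMap A (Localization.Away g) r) := IsLocalization.Away.algebraMap_isUnit r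
  have hb' : b ∉ q.comap (algebraMap A N) := fun h => by
    have h1 : algebraMap A (Localization.Away g) b ∈ q.map (algebraMap N (Localization.Away g)) := by
      rw [IsScalarTower.algebraMap_apply A N]; exact Ideal.mem_map_of_mem _ h
    rw [← hb] at h1
    exact hc ((hmem c).1 ((Ideal.mul_unit_mem_iff_mem _ (hu.pow n)).1 h1))
  have h0 : algebraMap A (Localization.Away g) (b * a) = 0 := by
    rw [map_mul, ← hb, mul_right_comm, IsScalarTower.algebraMap_apply A N (Localization.Away g) a, ← map_mul, hca, map_zero,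
      zero_mul]
  rw [IsLocalization.map_eq_zero_iff (Submonoid.powers r)] at h0
  obtain ⟨⟨d, k, rfl⟩, hdk⟩ := h0
  refine ⟨r ^ k * b, fun h => ?_, by rw [mul_assoc]; exact hdk⟩
  rcases Ideal.IsPrime.mem_or_mem inferInstance h with h | h
  · have hr' : algebraMap A (Localization.Away g) r ∈ q.map (algebraMap N (Localization.Away g)) := by
      rw [IsScalarTower.algebraMap_apply A N]
      exact Ideal.mem_map_of_mem _ (Ideal.mem_comap.1 ((Ideal.IsPrime.comap (algebraMap A N)).mem_of_pow_mem k h))
    exact hprime.ne_top (Ideal.eq_top_of_isUnit_mem _ hr' hu)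
  · exact hb' h

variable {B : Type u} [CommRing B] [Algebra A B]

theorem identifiesLocalRings_of_isIndZariski (h : EtPBC.IsIndZariski A B) : EtPBC.IdentifiesLocalRings A B := by
  have hF := factorsThrough_of_isIndZariski h
  intro q
  let p := q.asIdeal.comap (algebraMap A B)
  refine ⟨(injective_iff_map_eq_zero _).2 fun z hz => ?_, fun z => ?_⟩
  · obtain ⟨⟨a, s⟩, rfl⟩ := IsLocalization.mk'_surjective p.primeCompl z
    rw [Localization.localRingHom_mk', IsLocalization.mk'_eq_zero_iff] at hz
    obtain ⟨⟨c, hc⟩, hca⟩ := hz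
    let K : Ideal (Polynomial A) := Ideal.span {Polynomial.X * Polynomial.C a}
    haveI : Algebra.FinitePresentation A (Polynomial A ⧸ K) :=
      Algebra.FinitePresentation.quotient (Submodule.fg_span_singleton _)
    let φ : (Polynomial A ⧸ K) →ₐ[A] B := Ideal.Quotient.liftₐ K (Polynomial.aeval c) fun f hf => by
      obtain ⟨g, rfl⟩ := Ideal.mem_span_singleton'.1 hf
      rw [map_mul, map_mul, Polynomial.aeval_X, Polynomial.aeval_C, hca, mul_zero]
    obtain ⟨N, _, _, _, α, β, hab⟩ := hF _ φ
    have hc' : α (Ideal.Quotient.mk K Polynomial.X) ∉ q.asIdeal.comap β.toRingHom := fun hh => by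
      have h2 : β (α (Ideal.Quotient.mk K Polynomial.X)) ∈ q.asIdeal := hh
      rw [← AlgHom.comp_apply, hab] at h2
      exact hc (Polynomial.aeval_X (R := A) c ▸ h2)
    obtain ⟨d, hd, hda⟩ := exists_kill_of_isLocalIso (q.asIdeal.comap β.toRingHom) a hc' (by
      rw [← α.commutes a, IsScalarTower.algebraMap_apply A (Polynomial A) (Polynomial A ⧸ K), Ideal.Quotient.algebraMap_eq,
        ← Polynomial.C_eq_algebraMap, ← map_mul, ← map_mul,
        (Ideal.Quotient.eq_zero_iff_mem (I := K) (a := Polynomial.X * Polynomial.C a)).2 (Ideal.subset_span rfl), map_zero])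
    refine (IsLocalization.mk'_eq_zero_iff _ _).2 ⟨⟨d, ?_⟩, hda⟩
    change d ∉ q.asIdeal.comap (algebraMap A B)
    rw [← β.comp_algebraMap, ← Ideal.comap_comap]
    exact hd
  · obtain ⟨⟨x, s⟩, rfl⟩ := IsLocalization.mk'_surjective q.asIdeal.primeCompl z
    have key : ∀ x : B, ∃ w, Localization.localRingHom p q.asIdeal (algebraMap A B) rfl w = algebraMap B _ x := fun x => by
      obtain ⟨N, _, _, _, α, β, hab⟩ := hF (Polynomial A) (Polynomial.aeval x)
      obtain ⟨a, d, c, hd, hc, he⟩ := exists_frac_of_isLocalIso (A := A) (q.asIdeal.comap β.toRingHom) (α Polynomial.X)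
      have hd' : d ∈ p.primeCompl := by
        change d ∉ q.asIdeal.comap (algebraMap A B)
        rw [← β.comp_algebraMap, ← Ideal.comap_comap]
        exact hd
      have he' := congrArg β he
      rw [map_mul, map_sub, map_mul, AlgHom.commutes, AlgHom.commutes, map_zero, ← AlgHom.comp_apply, hab,
        Polynomial.aeval_X, mul_sub, sub_eq_zero] at he'
      refine ⟨IsLocalization.mk' _ a (⟨d, hd'⟩ : p.primeCompl), ?_⟩
      rw [Localization.localRingHom_mk', IsLocalization.mk'_eq_iff_eq_mul, ← map_mul,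
        IsLocalization.eq_iff_exists q.asIdeal.primeCompl]
      exact ⟨⟨β c, hc⟩, by rw [mul_comm x]; exact he'.symm⟩
    obtain ⟨w, hw⟩ := key x
    obtain ⟨v, hv⟩ := key s
    have hvu : IsUnit v := by
      have : IsUnit (Localization.localRingHom p q.asIdeal (algebraMap A B) rfl v) := by
        rw [hv]; exact IsLocalization.map_units _ s
      exact isUnit_of_map_unit _ _ this
    obtain ⟨v, rfl⟩ := hvu
    refine ⟨w * ↑v⁻¹, ?_⟩
    rw [map_mul, IsLocalization.eq_mk'_iff_mul_eq, ← hv, mul_assoc, ← map_mul, Units.inv_mul, map_one, mul_one, hw]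

end

end Groth.Agent.IndZarLib
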