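import Groth.Agent.IndZarLib.Factor
import Groth.Agent.IndEtLib.Localization
import Groth.Agent.WLocalLib.Retraction
import Mathlib.RingTheory.Idempotents
import Mathlib.Algebra.BigOperators.Ring.Finset
import Mathlib.Topology.Separation.Profinite

/-!
# Algebras with w-local spectrum identifying local rings are ind-Zariski
-/

universe u

namespace Groth.Agent.IndZarLib

noncomputable section

open WLocalLib

variable {A B : Type u} [CommRing A] [CommRing B] [Algebra A B]

/-- an idempotent neighbourhood inside a principal open around a closed point -/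
theorem exists_idempotent_le (hB : ProEtW.IsWLocal (PrimeSpectrum B)) {y : PrimeSpectrum B}
    (hy : IsClosed ({y} : Set (PrimeSpectrum B))) {U : Set (PrimeSpectrum B)} (hU : IsOpen U) (hyU : y ∈ U) :
    ∃ e : B, IsIdempotentElem e ∧ e ∉ y.asIdeal ∧ (PrimeSpectrum.basicOpen e : Set (PrimeSpectrum B)) ⊆ U := by
  obtain ⟨hc, ht, htd⟩ := isProfinite_closedPoints hB
  obtain ⟨W, hW, hyW, hWU⟩ := compact_exists_isClopen_in_isOpen
    (X := {x : PrimeSpectrum B | IsClosed ({x} : Set (PrimeSpectrum B))})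
    (hU.preimage continuous_subtype_val) (show (⟨y, hy⟩ : {x : PrimeSpectrum B | IsClosed ({x} : Set (PrimeSpectrum B))}) ∈ _ from hyU)
  obtain ⟨e, he, heq⟩ := PrimeSpectrum.exists_idempotent_basicOpen_eq_of_isClopen
    (hW.preimage ((continuous_ret hB).subtype_mk (ret_closed hB)))
  refine ⟨e, he, ?_, ?_⟩
  · have : y ∈ (PrimeSpectrum.basicOpen e : Set (PrimeSpectrum B)) := by
      rw [← heq]
      show (⟨ret hB y, _⟩ : {x : PrimeSpectrum B | IsClosed ({x} : Set (PrimeSpectrum B))}) ∈ W
      convert hyW using 1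
      exact Subtype.ext (ret_eq_self hB hy)
    exact this
  · intro z hz
    rw [← heq] at hz
    exact (specializes_ret hB z).mem_open hU (hWU hz)

theorem isIndZariski_of_identifies_closed (hB : ProEtW.IsWLocal (PrimeSpectrum B))
    (h : ∀ y : PrimeSpectrum B, IsClosed ({y} : Set (PrimeSpectrum B)) → Function.Bijective
      (Localization.localRingHom (y.asIdeal.comap (algebraMap A B)) y.asIdeal (algebraMap A B) rfl)) :
    EtPBC.IsIndZariski A B := by
  classical
  refine isIndZariski_of_factor fun P _ _ _ φ => ?_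
  obtain ⟨k, π, hπ⟩ := Algebra.FiniteType.iff_quotient_mvPolynomial''.1 (inferInstance : Algebra.FiniteType A P)
  have hloc : ∀ y₀ : {y : PrimeSpectrum B // IsClosed ({y} : Set (PrimeSpectrum B))}, ∃ e : B, IsIdempotentElem e ∧
      (e ∉ y₀.1.asIdeal) ∧
      ∃ (h : A) (ψ : P →ₐ[A] Localization.Away h) (γ : Localization.Away h →ₐ[A] B ⧸ Ideal.span {1 - e}),
        γ.comp ψ = (Ideal.Quotient.mkₐ A _).comp φ := fun ⟨y, hy⟩ => by
    let x := y.asIdeal.comap (algebraMap A B)
    let E : Localization.AtPrime x →ₐ[A] Localization.AtPrime y.asIdeal :=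
      { (Localization.localRingHom x y.asIdeal (algebraMap A B) rfl) with
        commutes' := fun a => (Localization.localRingHom_to_map _ _ _ _ a).trans
          (IsScalarTower.algebraMap_apply A B _ a).symm }
    let E' := AlgEquiv.ofBijective E (h y hy)
    obtain ⟨m, ψ, hψ⟩ := IndEtLib.exists_lift_away x.primeCompl (Localization.AtPrime x) P
      (E'.symm.toAlgHom.comp ((IsScalarTower.toAlgHom A B (Localization.AtPrime y.asIdeal)).comp φ))
    choose n a ha using fun i : Fin k => IsLocalization.Away.surj m.el (ψ (π (MvPolynomial.X i)))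
    have hkill : ∀ i, ∃ c : B, c ∉ y.asIdeal ∧
        c * (φ (π (MvPolynomial.X i)) * algebraMap A B m.el ^ n i - algebraMap A B (a i)) = 0 := fun i => by
      have h1 := congrArg (IndEtLib.LocIdx.toLoc (Localization.AtPrime x) m) (ha i)
      rw [map_mul, map_pow, AlgHom.commutes, AlgHom.commutes, ← AlgHom.comp_apply, hψ] at h1
      have h2 := congrArg E' h1
      rw [map_mul, map_pow, AlgEquiv.commutes, AlgEquiv.commutes] at h2
      simp only [AlgHom.comp_apply, AlgEquiv.toAlgHom_apply, AlgEquiv.apply_symm_apply, IsScalarTower.coe_toAlgHom'] at h2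
      rw [IsScalarTower.algebraMap_apply A B (Localization.AtPrime y.asIdeal) m.el,
        IsScalarTower.algebraMap_apply A B (Localization.AtPrime y.asIdeal) (a i), ← map_pow, ← map_mul,
        IsLocalization.eq_iff_exists y.asIdeal.primeCompl] at h2
      obtain ⟨c, hc⟩ := h2
      exact ⟨c, c.2, by rw [mul_sub, hc, sub_self]⟩
    choose c hc hc0 using hkill
    let d := algebraMap A B m.el * ∏ i, c i
    have hd : d ∉ y.asIdeal := by
      refine Ideal.IsPrime.mul_notMem y.2 (fun hh => (Subtype.prop m : m.el ∈ x.primeCompl) hh) fun hh => ?_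
      obtain ⟨i, -, hi⟩ := y.2.prod_mem_iff.1 hh
      exact hc i hi
    obtain ⟨e, he, hey, hed⟩ := exists_idempotent_le hB hy (PrimeSpectrum.basicOpen d).isOpen hd
    let R' := B ⧸ Ideal.span {1 - e}
    have hdu : IsUnit (Ideal.Quotient.mk (Ideal.span {1 - e}) d) := by
      by_contra hu
      obtain ⟨Q, hQ, hdQ⟩ := exists_max_ideal_of_mem_nonunits hu
      let Q' : PrimeSpectrum B := PrimeSpectrum.comap (Ideal.Quotient.mk (Ideal.span {1 - e})) ⟨Q, hQ.isPrime⟩
      have heQ : e ∉ Q'.asIdeal := fun hh => by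
        have h1 : 1 - e ∈ Q'.asIdeal := by
          show Ideal.Quotient.mk (Ideal.span {1 - e}) (1 - e) ∈ Q
          rw [(Ideal.Quotient.eq_zero_iff_mem (I := Ideal.span {1 - e}) (a := 1 - e)).2 (Ideal.subset_span rfl)]
          exact zero_mem _
        exact Q'.2.one_notMem (by simpa using Q'.asIdeal.add_mem hh h1)
      exact hed heQ hdQ
    have hmu : IsUnit ((Algebra.ofId A R') m.el) := by
      change IsUnit (Ideal.Quotient.mk (Ideal.span {1 - e}) (algebraMap A B m.el))
      rw [map_mul] at hdu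
      exact isUnit_of_mul_isUnit_left hdu
    have hcu : ∀ i, IsUnit (Ideal.Quotient.mk (Ideal.span {1 - e}) (c i)) := fun i =>
      isUnit_of_dvd_unit ((map_dvd _ (Finset.dvd_prod_of_mem c (Finset.mem_univ i))).trans (by rw [map_mul]; exact dvd_mul_left _ _)) hdu
    refine ⟨e, he, hey, m.el, ψ, IsLocalization.Away.liftAlgHom (A := A) m.el hmu, ?_⟩
    refine AlgHom.cancel_right hπ |>.1 (MvPolynomial.algHom_ext fun i => ?_)
    simp only [AlgHom.comp_apply, Ideal.Quotient.mkₐ_eq_mk]
    have h1 := congrArg (IsLocalization.Away.liftAlgHom (A := A) m.el (S := Localization.Away m.el) hmu) (ha i)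
    rw [map_mul, map_pow, AlgHom.commutes, AlgHom.commutes] at h1
    have h2 := congrArg (Ideal.Quotient.mk (Ideal.span {1 - e})) (hc0 i)
    rw [map_mul, map_zero, (hcu i).mul_right_eq_zero, map_sub, map_mul, map_pow, sub_eq_zero] at h2
    exact (hmu.pow (n i)).mul_right_cancel (h1.trans h2.symm)
  choose e he hey hh ψ γ hγ using hloc
  -- finitely many idempotents cover
  obtain ⟨t, ht⟩ := isCompact_univ.elim_finite_subcover (fun y => (PrimeSpectrum.basicOpen (e y) : Set (PrimeSpectrum B)))
    (fun y => (PrimeSpectrum.basicOpen (e y)).isOpen) fun z _ => by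
      refine Set.mem_iUnion.2 ⟨⟨ret hB z, ret_closed hB z⟩, ?_⟩
      exact (specializes_ret hB z).mem_open (PrimeSpectrum.basicOpen _).isOpen (hey ⟨ret hB z, ret_closed hB z⟩)
  obtain ⟨l, g, hg⟩ : ∃ (l : ℕ) (g : Fin l → {y : PrimeSpectrum B // IsClosed ({y} : Set (PrimeSpectrum B))}), ∀ z, ∃ i, z ∈ PrimeSpectrum.basicOpen (e (g i)) := by
    refine ⟨t.card, fun i => (t.equivFin.symm i).1, fun z => ?_⟩
    obtain ⟨y, hy, hzy⟩ := Set.mem_iUnion₂.1 (ht (Set.mem_univ z))
    exact ⟨t.equivFin ⟨y, hy⟩, by simpa using hzy⟩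
  let f : Fin l → B := fun i => e (g i) * ∏ j ∈ Finset.univ with j < i, (1 - e (g j))
  have hidem : ∀ (u : Finset (Fin l)), IsIdempotentElem (∏ j ∈ u, (1 - e (g j))) := fun u => by
    show _ * _ = _
    rw [← Finset.prod_mul_distrib]
    exact Finset.prod_congr rfl fun j _ => (he (g j)).one_sub.eq
  have hprod : ∏ i, (1 - e (g i)) = 0 := by
    refine (hidem Finset.univ).eq_zero_of_isNilpotent (nilpotent_iff_mem_prime.2 fun z hz => ?_)
    obtain ⟨i, hi⟩ := hg ⟨z, hz⟩
    refine hz.prod_mem_iff.2 ⟨i, Finset.mem_univ i, ?_⟩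
    exact (hz.mem_or_mem ((he (g i)).mul_one_sub_self.symm ▸ z.zero_mem)).resolve_left hi
  have hker : ∀ i j, j < i → (1 - e (g j)) * f i = f i := fun i j hji => by
    have h1 : (1 - e (g j)) * ∏ b ∈ Finset.univ with b < i, (1 - e (g b)) = ∏ b ∈ Finset.univ with b < i, (1 - e (g b)) := by
      rw [← Finset.mul_prod_erase _ _ (Finset.mem_filter.2 ⟨Finset.mem_univ j, hji⟩), ← mul_assoc, (he (g j)).one_sub.eq]
    simp only [f]
    rw [mul_left_comm, h1]
  have hf : CompleteOrthogonalIdempotents f := by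
    refine ⟨⟨fun i => ?_, fun i j hij => ?_⟩, ?_⟩
    · show _ * _ = _
      simp only [f]
      rw [mul_mul_mul_comm, (he (g i)).eq, (hidem _).eq]
    · show f i * f j = 0
      rcases lt_or_gt_of_ne hij with hl | hl
      · rw [← hker j i hl, ← mul_assoc, show f i * (1 - e (g i)) = 0 by
          simp only [f]; rw [mul_right_comm, (he (g i)).mul_one_sub_self, zero_mul], zero_mul]
      · rw [← hker i j hl, mul_right_comm, show (1 - e (g j)) * f j = 0 by
          simp only [f]; rw [← mul_assoc, (he (g j)).one_sub_mul_self, zero_mul], zero_mul]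
    · have := Finset.prod_one_sub_ordered (R := B) Finset.univ (fun i => e (g i))
      rw [hprod] at this
      exact (sub_eq_zero.1 this.symm).symm
  let E : B ≃ₐ[A] ∀ i, B ⧸ Ideal.span {1 - f i} :=
    AlgEquiv.ofBijective (AlgHom.pi fun i => Ideal.Quotient.mkₐ A _) hf.bijective_pi
  have hle : ∀ i, Ideal.span {1 - e (g i)} ≤ Ideal.span {1 - f i} := fun i => by
    rw [Ideal.span_singleton_le_span_singleton]
    refine ⟨1 - e (g i), ?_⟩
    have : (1 - e (g i)) * f i = 0 := by simp only [f]; rw [← mul_assoc, (he (g i)).one_sub_mul_self, zero_mul]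
    rw [sub_mul, one_mul, mul_comm (f i), this, sub_zero]
  refine ⟨∀ i, Localization.Away (hh (g i)), inferInstance, inferInstance, Algebra.IsLocalIso.pi_of_finite A _,
    AlgHom.pi fun i => ψ (g i),
    E.symm.toAlgHom.comp (AlgHom.pi fun i => ((Ideal.Quotient.factorₐ A (hle i)).comp (γ (g i))).comp
      (Pi.evalAlgHom A (fun i => Localization.Away (hh (g i))) i)), AlgHom.ext fun x => ?_⟩
  refine E.symm_apply_eq.2 (funext fun i => ?_)
  change Ideal.Quotient.factor (hle i) (γ (g i) (ψ (g i) x)) = Ideal.Quotient.mk _ (φ x)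
  rw [← AlgHom.comp_apply, hγ]
  rfl

theorem isIndZariski_of_identifies (hB : ProEtW.IsWLocal (PrimeSpectrum B))
    (h : EtPBC.IdentifiesLocalRings A B) : EtPBC.IsIndZariski A B :=
  isIndZariski_of_identifies_closed hB fun y _ => h y

end

end Groth.Agent.IndZarLib
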